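/-
Order bound for matrices whose characteristic polynomial is invariant under inversion.
-/
import Mathlib

set_option autoImplicit false

namespace Cfsg.Agent.ClassOrder1

open Polynomial

section Arith

variable {q : ℕ}

theorem sum_range_two_pow (N : ℕ) : (∑ v ∈ Finset.range N, 2 ^ v) + 1 = 2 ^ N := by
  induction N with
  | zero => simp
  | succ n ih => rw [Finset.sum_range_succ, pow_succ]; omega

theorem prod_range_fermat (hq : 1 ≤ q) (N : ℕ) :
    (q - 1) * ∏ v ∈ Finset.range N, (q ^ 2 ^ v + 1) + 1 = q ^ 2 ^ N := by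
  induction N with
  | zero => simp; omega
  | succ n ih =>
    rw [Finset.prod_range_succ, ← mul_assoc, pow_succ, Nat.mul_comm (2 ^ n) 2, two_mul, pow_add]
    set P := (q - 1) * ∏ v ∈ Finset.range n, (q ^ 2 ^ v + 1)
    rw [← ih]
    ring

/-- `(q - 1) ∏_{v ∈ T} (q^(2^v) + 1) ≤ q^(1 + ∑ 2^v)`. -/
theorem mul_prod_fermat_le (hq : 1 ≤ q) (T : Finset ℕ) :
    (q - 1) * ∏ v ∈ T, (q ^ 2 ^ v + 1) ≤ q ^ ((∑ v ∈ T, 2 ^ v) + 1) := by
  set N := T.sup id + 1
  have hT : T ⊆ Finset.range N := fun v hv => Finset.mem_range.mpr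
    (Nat.lt_succ_of_le (Finset.le_sup (f := id) hv))
  have h1 : ∏ v ∈ Finset.range N \ T, q ^ 2 ^ v ≤ ∏ v ∈ Finset.range N \ T, (q ^ 2 ^ v + 1) :=
    Finset.prod_le_prod' fun v _ => Nat.le_succ _
  rw [Finset.prod_pow_eq_pow_sum] at h1
  have h2 : (q - 1) * (∏ v ∈ T, (q ^ 2 ^ v + 1)) * q ^ (∑ v ∈ Finset.range N \ T, 2 ^ v) ≤
      q ^ ((∑ v ∈ T, 2 ^ v) + 1) * q ^ (∑ v ∈ Finset.range N \ T, 2 ^ v) := by
    refine (Nat.mul_le_mul_left _ h1).trans ?_
    rw [mul_assoc, mul_comm (∏ v ∈ T, _), Finset.prod_sdiff hT, ← pow_add, add_right_comm,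
      add_comm (∑ v ∈ T, 2 ^ v), Finset.sum_sdiff hT, sum_range_two_pow]
    exact (Nat.le_succ _).trans (prod_range_fermat hq N).le
  exact Nat.le_of_mul_le_mul_right h2 (pow_pos hq _)

end Arith

section Orbits

variable {K : Type*} [Field K] {q : ℕ} (φ : K →+* K)

/-- A finite set of field elements stable under `x ↦ x^q` and `x ↦ x⁻¹`, none squaring to `1`, is killed by
an exponent `M ∏_{v ∈ T} (q^(2^v) + 1)` with `M ≤ q^E` and `2 (E + ∑ 2^v) ≤ |R|`. -/
theorem exists_exponent (hq : 2 ≤ q) (hφ : ∀ x, φ x = x ^ q) (R : Finset K) :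
    (∀ r ∈ R, r ≠ 0 ∧ r * r ≠ 1) → (∀ r ∈ R, r⁻¹ ∈ R) → (∀ r ∈ R, r ^ q ∈ R) →
    ∃ (h M E : ℕ) (T : Finset ℕ), R.card = 2 * h ∧ 0 < M ∧ M ≤ q ^ E ∧ E + ∑ v ∈ T, 2 ^ v ≤ h ∧
      (∀ r ∈ R, r ^ (M * ∏ v ∈ T, (q ^ 2 ^ v + 1)) = 1) ∧
      (R.Nonempty → Odd q → Even (M * ∏ v ∈ T, (q ^ 2 ^ v + 1))) := by
  classical
  induction R using Finset.strongInduction with
  | _ R ih =>
    intro h0 hinv hfr
    rcases R.eq_empty_or_nonempty with rfl | ⟨r, hr⟩
    · exact ⟨0, 1, 0, ∅, by simp, one_pos, by simp, by simp, by simp, by simp⟩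
    have hiter : ∀ (j : ℕ) (x : K), φ^[j] x = x ^ q ^ j := by
      intro j x
      induction j with
      | zero => simp
      | succ n ihn => rw [Function.iterate_succ_apply', ihn, hφ, ← pow_mul, pow_succ]
    have hpinj : ∀ (j : ℕ) (x y : K), x ^ q ^ j = y ^ q ^ j → x = y := by
      intro j x y hxy
      rw [← hiter, ← hiter] at hxy
      exact φ.injective.iterate j hxy
    have hmem : ∀ j : ℕ, r ^ q ^ j ∈ R := by
      intro j
      induction j with
      | zero => simpa using hr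
      | succ n ihn => rw [pow_succ, pow_mul]; exact hfr _ ihn
    have hex : ∃ j, 1 ≤ j ∧ (r ^ q ^ j = r ∨ r ^ q ^ j = r⁻¹) := by
      obtain ⟨i, hi, j, hj, hne, hij⟩ := Finset.exists_ne_map_eq_of_card_lt_of_maps_to
        (s := Finset.range (R.card + 1)) (t := R) (f := fun j => r ^ q ^ j) (by simp) (fun j _ => hmem j)
      rcases lt_or_gt_of_ne hne with hlt | hlt
      · refine ⟨j - i, by omega, Or.inl (hpinj i _ _ ?_)⟩
        rw [← pow_mul, ← pow_add, show j - i + i = j by omega]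
        exact hij.symm
      · refine ⟨i - j, by omega, Or.inl (hpinj j _ _ ?_)⟩
        rw [← pow_mul, ← pow_add, show i - j + j = i by omega]
        exact hij
    obtain ⟨hd1, hd2⟩ := Nat.find_spec hex
    set d := Nat.find hex with hd
    set A := (Finset.range d).image (fun i => r ^ q ^ i) with hA
    set B := (Finset.range d).image (fun i => (r ^ q ^ i)⁻¹) with hB
    set O := A ∪ B with hO
    have hmin : ∀ i k, i < d → k < d → i ≤ k → (r ^ q ^ i = r ^ q ^ k ∨ (r ^ q ^ i)⁻¹ = r ^ q ^ k ∨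
        r ^ q ^ i = (r ^ q ^ k)⁻¹) → i = k := by
      intro i k _ hk hik hor
      by_contra hne
      have hj : ¬ (1 ≤ k - i ∧ (r ^ q ^ (k - i) = r ∨ r ^ q ^ (k - i) = r⁻¹)) :=
        Nat.find_min hex (by omega)
      refine hj ⟨by omega, ?_⟩
      have hk' : r ^ q ^ k = (r ^ q ^ (k - i)) ^ q ^ i := by
        rw [← pow_mul, ← pow_add, show k - i + i = k by omega]
      rcases hor with h | h | h
      · exact Or.inl (hpinj i _ _ (hk' ▸ h.symm))
      · right; apply hpinj i; rw [← hk', inv_pow]; exact h.symm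
      · right; apply hpinj i; rw [← hk', inv_pow, h, inv_inv]
    have hAcard : A.card = d := by
      rw [hA, Finset.card_image_of_injOn, Finset.card_range]
      intro i hi k hk h
      simp only [Finset.coe_range, Set.mem_Iio] at hi hk
      rcases le_total i k with hle | hle
      · exact hmin i k hi hk hle (Or.inl h)
      · exact (hmin k i hk hi hle (Or.inl h.symm)).symm
    have hBcard : B.card = d := by
      rw [hB, Finset.card_image_of_injOn, Finset.card_range]
      intro i hi k hk h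
      simp only [Finset.coe_range, Set.mem_Iio] at hi hk
      have h' : r ^ q ^ i = r ^ q ^ k := inv_injective h
      rcases le_total i k with hle | hle
      · exact hmin i k hi hk hle (Or.inl h')
      · exact (hmin k i hk hi hle (Or.inl h'.symm)).symm
    have hdisj : Disjoint A B := by
      rw [Finset.disjoint_left]
      intro x hxA hxB
      simp only [hA, hB, Finset.mem_image, Finset.mem_range] at hxA hxB
      obtain ⟨i, hi, rfl⟩ := hxA
      obtain ⟨k, hk, hki⟩ := hxB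
      have hik : i = k := by
        rcases le_total i k with hle | hle
        · exact hmin i k hi hk hle (Or.inr (Or.inr hki.symm))
        · exact (hmin k i hk hi hle (Or.inr (Or.inl hki))).symm
      subst hik
      obtain ⟨h00, h11⟩ := h0 _ (hmem i)
      apply h11
      nth_rewrite 1 [← hki]
      exact inv_mul_cancel₀ h00
    have hOcard : O.card = 2 * d := by
      rw [hO, Finset.card_union_of_disjoint hdisj, hAcard, hBcard, two_mul]
    have hOR : O ⊆ R := by
      intro x hx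
      simp only [hO, hA, hB, Finset.mem_union, Finset.mem_image, Finset.mem_range] at hx
      rcases hx with ⟨i, _, rfl⟩ | ⟨i, _, rfl⟩
      · exact hmem i
      · exact hinv _ (hmem i)
    have hOinv : ∀ x ∈ O, x⁻¹ ∈ O := by
      intro x hx
      simp only [hO, hA, hB, Finset.mem_union, Finset.mem_image, Finset.mem_range] at hx ⊢
      rcases hx with ⟨i, hi, rfl⟩ | ⟨i, hi, rfl⟩
      · exact Or.inr ⟨i, hi, rfl⟩
      · exact Or.inl ⟨i, hi, (inv_inv _).symm⟩
    have hOφ : O.image φ = O := by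
      refine Finset.eq_of_subset_of_card_le ?_ (by rw [Finset.card_image_of_injective _ φ.injective])
      intro y hy
      simp only [hO, hA, hB, Finset.mem_union, Finset.mem_image, Finset.mem_range] at hy ⊢
      obtain ⟨x, hx, rfl⟩ := hy
      have step : ∀ i < d, (∃ k < d, r ^ q ^ k = (r ^ q ^ i) ^ q) ∨ (∃ k < d, (r ^ q ^ k)⁻¹ = (r ^ q ^ i) ^ q) := by
        intro i hi
        rw [← pow_mul, ← pow_succ]
        by_cases hid : i + 1 < d
        · exact Or.inl ⟨i + 1, hid, rfl⟩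
        · rw [show i + 1 = d by omega]
          rcases hd2 with h | h
          · exact Or.inl ⟨0, by omega, by simpa using h.symm⟩
          · exact Or.inr ⟨0, by omega, by simpa using h.symm⟩
      rcases hx with ⟨i, hi, rfl⟩ | ⟨i, hi, rfl⟩
      · rw [hφ]; exact step i hi
      · rw [hφ, inv_pow]
        rcases step i hi with ⟨k, hk, h⟩ | ⟨k, hk, h⟩
        · exact Or.inr ⟨k, hk, by rw [h]⟩
        · exact Or.inl ⟨k, hk, by rw [← h, inv_inv]⟩
    have hlt : R \ O ⊂ R := by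
      refine Finset.sdiff_ssubset hOR ?_
      rw [← Finset.card_pos, hOcard]; omega
    obtain ⟨h', M, E, T, hc, hM0, hME, hET, hkill, _⟩ := ih _ hlt
      (fun x hx => h0 x (Finset.mem_sdiff.mp hx).1)
      (fun x hx => by
        obtain ⟨hxR, hxO⟩ := Finset.mem_sdiff.mp hx
        exact Finset.mem_sdiff.mpr ⟨hinv x hxR, fun h => hxO (inv_inv x ▸ hOinv _ h)⟩)
      (fun x hx => by
        obtain ⟨hxR, hxO⟩ := Finset.mem_sdiff.mp hx
        refine Finset.mem_sdiff.mpr ⟨hfr x hxR, fun h => hxO ?_⟩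
        rw [← hφ, ← hOφ, Finset.mem_image] at h
        obtain ⟨y, hy, hyx⟩ := h
        rwa [← φ.injective hyx])
    have hcard : R.card = 2 * (h' + d) := by
      have := Finset.card_sdiff_add_card_eq_card hOR
      omega
    -- a suitable exponent for the removed orbit
    have main : ∀ (X M' E' : ℕ) (T' : Finset ℕ), 0 < M' → M' ≤ q ^ E' → E' + ∑ v ∈ T', 2 ^ v ≤ h' + d →
        M * ∏ v ∈ T, (q ^ 2 ^ v + 1) ∣ M' * ∏ v ∈ T', (q ^ 2 ^ v + 1) →
        X ∣ M' * ∏ v ∈ T', (q ^ 2 ^ v + 1) → r ^ X = 1 → (Odd q → Even X) →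
        ∃ (h M E : ℕ) (T : Finset ℕ), R.card = 2 * h ∧ 0 < M ∧ M ≤ q ^ E ∧ E + ∑ v ∈ T, 2 ^ v ≤ h ∧
          (∀ r ∈ R, r ^ (M * ∏ v ∈ T, (q ^ 2 ^ v + 1)) = 1) ∧
          (R.Nonempty → Odd q → Even (M * ∏ v ∈ T, (q ^ 2 ^ v + 1))) := by
      intro X M' E' T' h1 h2 h3 h4 h5 h6 h7
      refine ⟨h' + d, M', E', T', hcard, h1, h2, h3, ?_, fun _ hodd => even_iff_two_dvd.mpr
        ((even_iff_two_dvd.mp (h7 hodd)).trans h5)⟩
      intro x hx
      by_cases hxO : x ∈ O
      · obtain ⟨c, hc'⟩ := h5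
        have hr1 : ∀ i, (r ^ q ^ i) ^ (M' * ∏ v ∈ T', (q ^ 2 ^ v + 1)) = 1 := by
          intro i
          rw [hc', ← pow_mul, mul_comm (q ^ i), pow_mul, pow_mul, h6, one_pow, one_pow]
        simp only [hO, hA, hB, Finset.mem_union, Finset.mem_image, Finset.mem_range] at hxO
        rcases hxO with ⟨i, _, rfl⟩ | ⟨i, _, rfl⟩
        · exact hr1 i
        · rw [inv_pow, hr1 i, inv_one]
      · obtain ⟨c, hc'⟩ := h4
        rw [hc', pow_mul, hkill x (Finset.mem_sdiff.mpr ⟨hx, hxO⟩), one_pow]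
    have hr0 : r ≠ 0 := (h0 r hr).1
    have hqd : q ≤ q ^ d := Nat.le_self_pow (by omega) q
    rcases hd2 with hd2 | hd2
    · -- `r^(q^d) = r`
      refine main (q ^ d - 1) (M * (q ^ d - 1)) (E + d) T (Nat.mul_pos hM0 (by omega)) ?_ (by omega) ?_ ?_ ?_ ?_
      · rw [pow_add]; exact Nat.mul_le_mul hME (Nat.sub_le _ _)
      · exact Nat.mul_dvd_mul_right (dvd_mul_right _ _) _
      · exact Dvd.dvd.mul_right (dvd_mul_left _ _) _
      · apply mul_right_cancel₀ hr0
        rw [← pow_succ, one_mul, show q ^ d - 1 + 1 = q ^ d by omega]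
        exact hd2
      · intro hodd
        exact Nat.Odd.sub_odd hodd.pow odd_one
    · -- `r^(q^d) = r⁻¹`
      obtain ⟨v, o, ho, hdo⟩ := Nat.exists_eq_two_pow_mul_odd (n := d) (by omega)
      obtain ⟨c, hc'⟩ : q ^ 2 ^ v + 1 ∣ q ^ d + 1 := by
        have := ho.nat_add_dvd_pow_add_pow (q ^ 2 ^ v) 1
        rwa [one_pow, ← pow_mul, ← hdo] at this
      have hvd : 2 ^ v ≤ d := by rw [hdo]; exact Nat.le_mul_of_pos_right _ ho.pos
      have hc0 : 0 < c := Nat.pos_of_ne_zero fun h => by rw [h, mul_zero] at hc'; simp at hc'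
      have hcle : c ≤ q ^ (d - 2 ^ v) := by
        refine Nat.le_of_mul_le_mul_left ?_ (Nat.succ_pos (q ^ 2 ^ v))
        rw [Nat.succ_eq_add_one, ← hc', add_mul, one_mul, ← pow_add, show 2 ^ v + (d - 2 ^ v) = d by omega]
        exact Nat.add_le_add_left (Nat.one_le_pow _ _ (by omega)) _
      have hsum : ∑ w ∈ insert v T, 2 ^ w ≤ 2 ^ v + ∑ w ∈ T, 2 ^ w := by
        by_cases hv : v ∈ T
        · rw [Finset.insert_eq_of_mem hv]; exact Nat.le_add_left _ _
        · rw [Finset.sum_insert hv]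
      refine main (q ^ d + 1) (M * c) (E + (d - 2 ^ v)) (insert v T) (Nat.mul_pos hM0 hc0) ?_ ?_ ?_ ?_ ?_ ?_
      · rw [pow_add]; exact Nat.mul_le_mul hME hcle
      · calc E + (d - 2 ^ v) + ∑ w ∈ insert v T, 2 ^ w
            ≤ E + (d - 2 ^ v) + (2 ^ v + ∑ w ∈ T, 2 ^ w) := Nat.add_le_add_left hsum _
          _ = (E + ∑ w ∈ T, 2 ^ w) + ((d - 2 ^ v) + 2 ^ v) := by ring
          _ ≤ h' + d := by rw [Nat.sub_add_cancel hvd]; exact Nat.add_le_add_right hET d
      · exact Nat.mul_dvd_mul (dvd_mul_right _ _)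
          (Finset.prod_dvd_prod_of_subset _ _ _ (Finset.subset_insert _ _))
      · rw [hc', mul_comm _ c]
        exact Nat.mul_dvd_mul (dvd_mul_left _ _) (Finset.dvd_prod_of_mem _ (Finset.mem_insert_self _ _))
      · rw [pow_succ, hd2, inv_mul_cancel₀ hr0]
      · intro hodd
        exact hodd.pow.add_one

end Orbits

end Cfsg.Agent.ClassOrder1
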