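/-
A projective order bound for matrices whose characteristic polynomial is invariant under inversion.
-/
import Cfsg.Agent.ClassOrder1.Bound

set_option autoImplicit false

namespace Cfsg.Agent.ClassOrder1

open Polynomial

/-- If `∏ (X - a)` is invariant under reversal up to a scalar, its root multiset is invariant under inversion. -/
theorem roots_smul_reverse_prod {K : Type*} [Field K] (s : Multiset K) (h0 : (0 : K) ∉ s) (c : K) (hc : c ≠ 0) :
    (C c * (s.map fun a => X - C a).prod.reverse).roots = s.map (·⁻¹) := by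
  rw [roots_C_mul _ hc]
  induction s using Multiset.induction with
  | empty => rw [Multiset.map_zero, Multiset.prod_zero, ← C_1, reverse_C, roots_C, Multiset.map_zero]
  | cons a s ih =>
    rw [Multiset.mem_cons, not_or] at h0
    have ha : (a : K) ≠ 0 := Ne.symm h0.1
    have hp : ((s.map fun a => X - C a).prod.reverse) ≠ 0 := by
      rw [Ne, reverse_eq_zero]
      exact (monic_multiset_prod_of_monic _ _ fun x _ => monic_X_sub_C x).ne_zero
    have hrev : (X - C a).reverse = C (-a) * (X - C a⁻¹) := by
      rw [sub_eq_add_neg, ← C_neg, reverse_add_C, natDegree_X, pow_one,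
        show (X : K[X]).reverse = 1 by
          have := reverse_mul_X (1 : K[X]); rwa [one_mul, ← C_1, reverse_C] at this]
      rw [mul_sub, ← C_mul, neg_mul, mul_inv_cancel₀ ha]; simp only [C_neg, C_1]
      ring
    rw [Multiset.map_cons, Multiset.prod_cons, reverse_mul_of_domain, Multiset.map_cons,
      roots_mul (mul_ne_zero (by rw [hrev]; exact mul_ne_zero (C_ne_zero.mpr (neg_ne_zero.mpr ha)) (X_sub_C_ne_zero _)) hp),
      ih h0.2, hrev, roots_C_mul _ (neg_ne_zero.mpr ha), roots_X_sub_C, Multiset.singleton_add]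

variable {F : Type*} [Field F] [Fintype F] {ι : Type*} [Fintype ι] [DecidableEq ι]

open scoped Classical in
/-- If every eigenvalue of `A` is an `N`-th root of `c` and has multiplicity at most `p^e`, then
`A^(N p^e) = c^(p^e)`. -/
theorem pow_eq_of_roots (p : ℕ) [Fact p.Prime] [CharP F p] (A : Matrix ι ι F) (N e : ℕ) (c : F)
    (h : ∀ r ∈ (A.charpoly.map (algebraMap F (AlgebraicClosure F))).roots,
      r ^ N = algebraMap F (AlgebraicClosure F) c)
    (hm : ∀ r : AlgebraicClosure F, (A.charpoly.map (algebraMap F (AlgebraicClosure F))).roots.count r ≤ p ^ e) :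
    A ^ (N * p ^ e) = algebraMap F _ (c ^ p ^ e) := by
  classical
  have hdvd : A.charpoly ∣ (X ^ N - C c) ^ p ^ e := by
    rw [← map_dvd_map' (algebraMap F (AlgebraicClosure F))]
    rw [(IsAlgClosed.splits _).eq_prod_roots_of_monic (A.charpoly_monic.map _),
      Finset.prod_multiset_map_count]
    refine Finset.prod_dvd_of_coprime (fun x _ y _ hxy => ((isCoprime_X_sub_C_of_isUnit_sub
      (sub_ne_zero.mpr hxy).isUnit).pow)) fun r hr => ?_
    rw [Polynomial.map_pow, Polynomial.map_sub, Polynomial.map_pow, map_X, map_C]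
    refine (pow_dvd_pow _ (hm r)).trans (pow_dvd_pow_of_dvd ?_ _)
    rw [dvd_iff_isRoot, IsRoot, eval_sub, eval_pow, eval_X, eval_C, h r (Multiset.mem_toFinset.mp hr), sub_self]
  obtain ⟨Q, hQ⟩ := hdvd
  have h0 : aeval A ((X ^ N - C c) ^ p ^ e) = 0 := by rw [hQ, map_mul, Matrix.aeval_self_charpoly, zero_mul]
  rw [map_pow, map_sub, map_pow, aeval_X, aeval_C] at h0
  rcases isEmpty_or_nonempty ι with hι | hι
  · exact Subsingleton.elim _ _
  haveI : CharP (Matrix ι ι F) p :=
    charP_of_injective_algebraMap (algebraMap F (Matrix ι ι F)).injective p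
  rw [sub_pow_char_pow_of_commute (p := p) (h := (Algebra.commutes c (A ^ N)).symm), sub_eq_zero, ← pow_mul, ← map_pow] at h0
  exact h0

/-- The main bound. -/
theorem exists_pow_eq_pm_one (A : Matrix ι ι F) (hA : IsUnit A) (hs : A⁻¹.charpoly = A.charpoly) (m : ℕ)
    (hm : 2 ≤ m) (hn : Fintype.card ι = 2 * m ∨ (Fintype.card ι = 2 * m + 1 ∧ Odd (Fintype.card F) ∧ 3 ≤ m)) :
    ∃ n : ℕ, 0 < n ∧ (Fintype.card F - 1) * n ≤ Fintype.card F ^ (m + 1) ∧ (A ^ n = 1 ∨ A ^ n = -1) := by
  classical
  obtain ⟨p, hpc⟩ := CharP.exists F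
  haveI : Fact p.Prime := ⟨CharP.char_is_prime F p⟩
  have hp : p.Prime := Fact.out
  obtain ⟨f, _, hq⟩ := FiniteField.card F p
  set q := Fintype.card F with hqdef
  have hq2 : 2 ≤ q := Fintype.one_lt_card
  have hpq : p ≤ q := by rw [hq]; exact Nat.le_self_pow f.pos.ne' p
  have hp2 : p = 2 ∨ (3 ≤ p ∧ Odd q) := by
    rcases hp.eq_two_or_odd' with h | h
    · exact Or.inl h
    · exact Or.inr ⟨by have := hp.two_le; obtain ⟨k, rfl⟩ := h; omega, hq ▸ h.pow⟩
  -- `r ↦ r^q` on the algebraic closure
  haveI : CharP (AlgebraicClosure F) p := charP_of_injective_algebraMap (algebraMap F _).injective p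
  let φ : AlgebraicClosure F →+* AlgebraicClosure F := iterateFrobenius (AlgebraicClosure F) p f
  have hφ : ∀ x, φ x = x ^ q := fun x => by rw [hq]; exact iterateFrobenius_def ..
  set P := A.charpoly.map (algebraMap F (AlgebraicClosure F)) with hP
  have hPmonic : P.Monic := A.charpoly_monic.map _
  set S := P.roots with hS
  have hScard : S.card = Fintype.card ι := by
    rw [hS, ← (IsAlgClosed.splits P).natDegree_eq_card_roots, hP, natDegree_map, Matrix.charpoly_natDegree_eq_dim]
  have hS0 : (0 : AlgebraicClosure F) ∉ S := by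
    intro h0
    rw [hS, mem_roots hPmonic.ne_zero, IsRoot, hP, eval_map, eval₂_at_zero, map_eq_zero] at h0
    have hdet := Matrix.det_eq_sign_charpoly_coeff A
    rw [h0, mul_zero] at hdet
    exact ((Matrix.isUnit_iff_isUnit_det A).mp hA).ne_zero hdet
  have hSinv : S.map (·⁻¹) = S := by
    have h1 : A.charpoly = C ((-1) ^ Fintype.card ι * A.det⁻¹) * A.charpoly.reverse := by
      conv_lhs => rw [← hs, Matrix.charpoly_inv A hA, ← Matrix.reverse_charpoly, Ring.inverse_eq_inv']
      rw [map_mul, map_pow, map_neg, map_one]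
    have hc : (-1) ^ Fintype.card ι * A.det⁻¹ ≠ 0 :=
      mul_ne_zero (pow_ne_zero _ (by simp)) (inv_ne_zero ((Matrix.isUnit_iff_isUnit_det A).mp hA).ne_zero)
    have h2 := congrArg (fun R => (R.map (algebraMap F (AlgebraicClosure F))).roots) h1
    simp only [Polynomial.map_mul, map_C] at h2
    rw [← hP, ← hS, reverse, ← reflect_map,
      ← natDegree_map_eq_of_injective (algebraMap F (AlgebraicClosure F)).injective A.charpoly, ← hP, ← reverse,
      (IsAlgClosed.splits P).eq_prod_roots_of_monic hPmonic, ← hS,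
      roots_smul_reverse_prod _ hS0 _ (by rwa [_root_.map_ne_zero])] at h2
    exact h2.symm
  have hSfr : S.map φ = S := by
    rw [hS, ← (IsAlgClosed.splits P).roots_map_of_injective φ.injective, hP, map_map]
    congr 2
    refine RingHom.ext fun x => ?_
    rw [RingHom.comp_apply, hφ, ← map_pow, hqdef, FiniteField.pow_card]
  have hcinv : ∀ r, S.count r⁻¹ = S.count r := fun r => by
    conv_lhs => rw [← hSinv]
    exact Multiset.count_map_eq_count' (·⁻¹) S inv_injective r
  set R := S.toFinset.filter (fun r => r * r ≠ 1) with hR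
  have hR0 : ∀ r ∈ R, r ≠ 0 ∧ r * r ≠ 1 := fun r hr => by
    rw [hR, Finset.mem_filter, Multiset.mem_toFinset] at hr
    exact ⟨fun h => hS0 (h ▸ hr.1), hr.2⟩
  have hRinv : ∀ r ∈ R, r⁻¹ ∈ R := fun r hr => by
    rw [hR, Finset.mem_filter, Multiset.mem_toFinset] at hr ⊢
    refine ⟨hSinv ▸ Multiset.mem_map_of_mem _ hr.1, fun h => hr.2 ?_⟩
    rwa [← mul_inv, inv_eq_one] at h
  have hRfr : ∀ r ∈ R, r ^ q ∈ R := fun r hr => by
    rw [hR, Finset.mem_filter, Multiset.mem_toFinset] at hr ⊢
    refine ⟨hφ r ▸ hSfr ▸ Multiset.mem_map_of_mem _ hr.1, fun h => hr.2 (φ.injective ?_)⟩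
    rw [map_mul, hφ, h, map_one]
  obtain ⟨h, M, E, T, hRcard, hM0, hME, hET, hkill, heven⟩ := exists_exponent φ hq2 hφ R hR0 hRinv hRfr
  set N := M * ∏ v ∈ T, (q ^ 2 ^ v + 1) with hN
  have hN0 : 0 < N := Nat.mul_pos hM0 (Finset.prod_pos fun v _ => Nat.succ_pos _)
  have hNb : (q - 1) * N ≤ q ^ (h + 1) := by
    calc (q - 1) * N = M * ((q - 1) * ∏ v ∈ T, (q ^ 2 ^ v + 1)) := by rw [hN]; ring
      _ ≤ q ^ E * q ^ ((∑ v ∈ T, 2 ^ v) + 1) := Nat.mul_le_mul hME (mul_prod_fermat_le (by omega) T)
      _ ≤ q ^ (h + 1) := by rw [← pow_add]; exact Nat.pow_le_pow_right (by omega) (by omega)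
  have hsq : ∀ r ∈ S, r ∉ R → r = 1 ∨ r = -1 := fun r hr hrR => by
    rw [hR, Finset.mem_filter, Multiset.mem_toFinset, not_and, not_not] at hrR
    exact mul_self_eq_one_iff.mp (hrR hr)
  have hone : ∀ k, A ^ k = algebraMap F _ (1 : F) → A ^ k = 1 ∨ A ^ k = -1 := fun k hk => Or.inl (by rw [hk, map_one])
  rcases R.eq_empty_or_nonempty with hRe | hRne
  · -- all eigenvalues are `±1`
    have hall : ∀ r ∈ S, r = 1 ∨ r = -1 := fun r hr => hsq r hr (by simp [hRe])
    have hcnt : ∀ r, S.count r ≤ Fintype.card ι := fun r => hScard ▸ Multiset.count_le_card r S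
    by_cases hboth : (1 : AlgebraicClosure F) ∈ S ∧ (-1 : AlgebraicClosure F) ∈ S ∧ (-1 : AlgebraicClosure F) ≠ 1
    · obtain ⟨h1, h2, h3⟩ := hboth
      have hp3 : 3 ≤ p := by
        rcases hp2 with hp' | hp'
        · exfalso; subst hp'; exact h3 (CharTwo.neg_eq 1)
        · exact hp'.1
      have hlt : ∀ r, S.count r + 1 ≤ Fintype.card ι := by
        intro r
        rw [← hScard]
        have hne : ∃ s ∈ S, s ≠ r := by
          by_cases h : r = 1
          · exact ⟨-1, h2, h ▸ h3⟩
          · exact ⟨1, h1, Ne.symm h⟩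
        obtain ⟨s, hs, hsr⟩ := hne
        have := Multiset.count_le_card r (S.erase s)
        rw [Multiset.count_erase_of_ne (Ne.symm hsr), Multiset.card_erase_of_mem hs, Nat.pred_eq_sub_one] at this
        have := Multiset.card_pos_iff_exists_mem.mpr ⟨s, hs⟩
        omega
      have hle : 2 * m - 1 + (if Fintype.card ι = 2 * m then 0 else 1) ≤ p ^ (m - 1) := by
        refine le_trans ?_ (Nat.pow_le_pow_left hp3 _)
        have key : ∀ j, 2 * j + 1 ≤ 3 ^ j ∧ (2 ≤ j → 2 * j + 2 ≤ 3 ^ j) := by
          intro j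
          induction j with
          | zero => simp
          | succ j ihj =>
            rw [pow_succ]
            rcases j with _ | j
            · simp
            · exact ⟨by omega, fun _ => by omega⟩
        have := key (m - 1)
        split <;> rcases hn with h | ⟨h, _, h'⟩ <;> omega
      refine ⟨2 * p ^ (m - 1), by positivity, ?_, hone _ ?_⟩
      · calc (q - 1) * (2 * p ^ (m - 1)) ≤ q * (q * q ^ (m - 1)) :=
            Nat.mul_le_mul (Nat.sub_le _ _) (Nat.mul_le_mul hq2 (Nat.pow_le_pow_left hpq _))
          _ = q ^ (m + 1) := by rw [← pow_succ', ← pow_succ']; congr 1; omega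
      · rw [pow_eq_of_roots p A 2 (m - 1) 1 (fun r hr => ?_) (fun r => ?_), one_pow]
        · rcases hall r hr with rfl | rfl <;> simp
        · have := hlt r
          rcases hn with h | ⟨h, _, _⟩
          · rw [if_pos h] at hle; show S.count r ≤ _; omega
          · rw [if_neg (by omega)] at hle; show S.count r ≤ _; omega
    · -- one eigenvalue
      have hcm : ∀ r, S.count r ≤ p ^ m := by
        intro r
        refine (hcnt r).trans ?_
        have k2 : ∀ j, 1 ≤ j → 2 * j ≤ 2 ^ j := by
          intro j hj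
          induction j with
          | zero => omega
          | succ j ihj =>
            rw [pow_succ]
            rcases j with _ | j
            · simp
            · have := ihj (by omega); omega
        rcases hn with h | ⟨h, hodd, _⟩
        · rw [h]; exact (k2 m (by omega)).trans (Nat.pow_le_pow_left hp.two_le m)
        · rcases hp2 with hp' | hp'
          · subst hp'
            rw [hq] at hodd
            exact absurd hodd (Nat.not_odd_iff_even.mpr ((Nat.even_pow).mpr ⟨even_two, f.pos.ne'⟩))
          · refine le_trans ?_ (Nat.pow_le_pow_left hp'.1 m)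
            have : ∀ j, 2 * j + 1 ≤ 3 ^ j := by
              intro j
              induction j with
              | zero => simp
              | succ j ihj => rw [pow_succ]; omega
            rw [h]; exact this m
      have hb : (q - 1) * p ^ m ≤ q ^ (m + 1) := by
        rw [pow_succ']; exact Nat.mul_le_mul (Nat.sub_le _ _) (Nat.pow_le_pow_left hpq _)
      by_cases h1 : ∀ r ∈ S, r = 1
      · refine ⟨p ^ m, pow_pos hp.pos _, hb, ?_⟩
        have := pow_eq_of_roots p A 1 m 1 (fun r hr => by rw [h1 r hr, map_one, pow_one]) hcm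
        rw [one_mul, one_pow] at this
        exact hone _ this
      · push_neg at h1
        obtain ⟨r, hr, hr1⟩ := h1
        have hm1 : (-1 : AlgebraicClosure F) ∈ S ∧ (-1 : AlgebraicClosure F) ≠ 1 := by
          rcases hall r hr with h | h
          · exact absurd h hr1
          · exact ⟨h ▸ hr, h ▸ hr1⟩
        refine ⟨p ^ m, pow_pos hp.pos _, hb, ?_⟩
        have := pow_eq_of_roots p A 1 m (-1) (fun s hs => ?_) hcm
        · rw [one_mul] at this
          rcases neg_one_pow_eq_or F (p ^ m) with hh | hh
          · exact hone _ (by rw [this, hh])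
          · exact Or.inr (by rw [this, hh, map_neg, map_one])
        · rw [pow_one, map_neg, map_one]
          rcases hall s hs with rfl | rfl
          · exact absurd ⟨hs, hm1⟩ hboth
          · rfl
  · -- some eigenvalue other than `±1`
    have hh0 : 0 < h := by have := hRne.card_pos; omega
    have hall : ∀ r ∈ S, r ^ N = algebraMap F (AlgebraicClosure F) 1 := by
      intro r hr
      rw [map_one]
      by_cases hrR : r ∈ R
      · exact hkill r hrR
      · rcases hsq r hr hrR with rfl | rfl
        · exact one_pow _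
        · rcases hp2 with hp' | hp'
          · subst hp'; rw [CharTwo.neg_eq, one_pow]
          · exact (heven hRne hp'.2).neg_one_pow
    have hsum : ∑ r ∈ S.toFinset, S.count r = Fintype.card ι := by rw [Multiset.toFinset_sum_count_eq, hScard]
    have hsub : R ⊆ S.toFinset := Finset.filter_subset _ _
    have hgeR : R.card ≤ ∑ r ∈ R, S.count r := by
      rw [Finset.card_eq_sum_ones]
      exact Finset.sum_le_sum fun r hr => Multiset.one_le_count_iff_mem.mpr (Multiset.mem_toFinset.mp (hsub hr))
    have hhm : h ≤ m := by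
      have := hgeR.trans ((Finset.sum_le_sum_of_subset hsub).trans hsum.le)
      omega
    have hcm : ∀ r, S.count r ≤ p ^ (m - h) := by
      intro r
      rcases Nat.eq_zero_or_pos (S.count r) with h0 | hpos
      · rw [h0]; exact Nat.zero_le _
      have hrS : r ∈ S.toFinset := Multiset.mem_toFinset.mpr (Multiset.count_pos.mp hpos)
      by_cases hrR : r ∈ R
      · have hne : r ≠ r⁻¹ := fun he => (hR0 r hrR).2 (by nth_rewrite 2 [he]; exact mul_inv_cancel₀ (hR0 r hrR).1)
        have h2 : ∑ s ∈ R, ((if s = r then S.count r - 1 else 0) + (if s = r⁻¹ then S.count r - 1 else 0) + 1) ≤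
            ∑ s ∈ R, S.count s := by
          refine Finset.sum_le_sum fun s hs => ?_
          have h1s : 1 ≤ S.count s := Multiset.one_le_count_iff_mem.mpr (Multiset.mem_toFinset.mp (hsub hs))
          by_cases hsr : s = r
          · subst hsr; rw [if_pos rfl, if_neg hne]; omega
          · by_cases hsi : s = r⁻¹
            · subst hsi; rw [if_neg hsr, if_pos rfl, hcinv]; omega
            · rw [if_neg hsr, if_neg hsi]; omega
        rw [Finset.sum_add_distrib, Finset.sum_add_distrib, Finset.sum_ite_eq', Finset.sum_ite_eq', if_pos hrR,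
          if_pos (hRinv r hrR), ← Finset.card_eq_sum_ones] at h2
        have := h2.trans ((Finset.sum_le_sum_of_subset hsub).trans hsum.le)
        calc S.count r ≤ (m - h) + 1 := by omega
          _ ≤ p ^ (m - h) := Nat.lt_pow_self hp.one_lt
      · have h2 : ∑ s ∈ insert r R, S.count s ≤ Fintype.card ι :=
          (Finset.sum_le_sum_of_subset (Finset.insert_subset hrS hsub)).trans hsum.le
        rw [Finset.sum_insert hrR] at h2
        have k2 : ∀ j, 2 * j ≤ 2 ^ j := by
          intro j
          induction j with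
          | zero => simp
          | succ j ihj =>
            rw [pow_succ]
            rcases j with _ | j
            · simp
            · have : 2 ≤ 2 ^ (j + 1) := Nat.le_self_pow (by omega) 2
              omega
        rcases hn with h' | ⟨h', hodd, _⟩
        · exact (show S.count r ≤ 2 * (m - h) by omega).trans ((k2 _).trans (Nat.pow_le_pow_left hp.two_le _))
        · rcases hp2 with hp' | hp'
          · subst hp'
            rw [hq] at hodd
            exact absurd hodd (Nat.not_odd_iff_even.mpr ((Nat.even_pow).mpr ⟨even_two, f.pos.ne'⟩))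
          · refine le_trans (show S.count r ≤ 2 * (m - h) + 1 by omega) (le_trans ?_ (Nat.pow_le_pow_left hp'.1 _))
            have : ∀ j, 2 * j + 1 ≤ 3 ^ j := by
              intro j
              induction j with
              | zero => simp
              | succ j ihj => rw [pow_succ]; omega
            exact this _
    refine ⟨N * p ^ (m - h), Nat.mul_pos hN0 (pow_pos hp.pos _), ?_, hone _ ?_⟩
    · rw [← mul_assoc]
      calc (q - 1) * N * p ^ (m - h) ≤ q ^ (h + 1) * q ^ (m - h) :=
            Nat.mul_le_mul hNb (Nat.pow_le_pow_left hpq _)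
        _ = q ^ (m + 1) := by rw [← pow_add]; congr 1; omega
    · rw [pow_eq_of_roots p A N (m - h) 1 hall hcm, one_pow]

/-- Projective version: the image of `g` in any quotient killing the elements with matrix `±1`. -/
theorem orderOf_mk_le {H : Type*} [Group H] (Z : Subgroup H) [Z.Normal] (toMat : H →* Matrix ι ι F)
    (hinj : Function.Injective toMat) (hZ : ∀ h : H, toMat h = -1 → h ∈ Z) (g : H)
    (hg : (toMat g)⁻¹.charpoly = (toMat g).charpoly) (m : ℕ)
    (hm : 2 ≤ m) (hn : Fintype.card ι = 2 * m ∨ (Fintype.card ι = 2 * m + 1 ∧ Odd (Fintype.card F) ∧ 3 ≤ m)) :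
    (Fintype.card F - 1) * orderOf (g : H ⧸ Z) ≤ Fintype.card F ^ (m + 1) := by
  obtain ⟨n, hn0, hnb, hpm⟩ := exists_pow_eq_pm_one (toMat g)
    (IsUnit.map toMat (Group.isUnit g)) hg m hm hn
  refine le_trans (Nat.mul_le_mul_left _ (Nat.le_of_dvd hn0 (orderOf_dvd_of_pow_eq_one ?_))) hnb
  rw [← QuotientGroup.mk_pow, QuotientGroup.eq_one_iff]
  rcases hpm with h | h
  · rw [← map_pow, ← map_one toMat] at h
    rw [hinj h]; exact one_mem Z
  · exact hZ _ (by rw [map_pow, h])

/-- A matrix preserving an invertible bilinear form has the characteristic polynomial of its inverse. -/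
theorem charpoly_inv_of_preserving (A B : Matrix ι ι F) (hB : IsUnit B) (h : A.transpose * B * A = B) :
    A⁻¹.charpoly = A.charpoly := by
  obtain ⟨b, rfl⟩ := hB
  have hA : A⁻¹ = (↑b⁻¹ : Matrix ι ι F) * A.transpose * (b : Matrix ι ι F) := by
    refine Matrix.inv_eq_left_inv ?_
    rw [mul_assoc, mul_assoc, ← mul_assoc A.transpose, h, Units.inv_mul]
  rw [hA, Matrix.coe_units_inv, Matrix.charpoly_units_conj', Matrix.charpoly_transpose]

end Cfsg.Agent.ClassOrder1
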